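import Cfsg.Agent.Lib.GLTwoThree.Order

/-!
# An involution whose centralizer maps onto `GL(2, 3)` with kernel of odd order

The kernel is centralized by the elements of determinant one and inverted by the others. The
averages of the characters over the fibres are the characters of `GL(2, 3)` on the fixed points of
the kernel.
-/

set_option autoImplicit false
set_option linter.style.haveILetI false
set_option linter.unusedSectionVars false

namespace Cfsg.Agent.GLTwoThree.Core

open Subgroup Cfsg.Agent.Characters Cfsg.Agent.SelfNine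
open scoped ComplexConjugate

universe u

/-- The centralizer of `t` maps onto `GL(2, 3)`, the kernel has odd order and the determinant tells
how it is acted upon. -/
structure Covered {G : Type u} [Group G] (t : G)
    (π : centralizer ({t} : Set G) →* GL23) : Prop where
  order : orderOf t = 2
  surj : Function.Surjective π
  odd : Odd (Nat.card π.ker)
  hT : π ⟨t, mem_centralizer_singleton_iff.2 rfl⟩ = T
  comm : ∀ c o : centralizer ({t} : Set G), o ∈ π.ker → (π c).val.det = 1 → c * o = o * c
  inv : ∀ c o : centralizer ({t} : Set G), o ∈ π.ker → (π c).val.det ≠ 1 → c * o = o⁻¹ * c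

variable {G : Type u} [Group G] [Finite G] {t : G} {π : centralizer ({t} : Set G) →* GL23}

/-- The involution, in its centralizer. -/
def tC (t : G) : centralizer ({t} : Set G) := ⟨t, mem_centralizer_singleton_iff.2 rfl⟩

theorem tC_comm (c : centralizer ({t} : Set G)) : tC t * c = c * tC t :=
  Subtype.ext (mem_centralizer_singleton_iff.1 c.2).symm

variable (E : Covered t π)
include E

theorem Covered.tC_sq : tC t * tC t = 1 :=
  Subtype.ext (by change t * t = 1; rw [← pow_two, ← E.order, pow_orderOf_eq_one])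

theorem Covered.card_ker_pos : 0 < Nat.card π.ker := Nat.card_pos

theorem Covered.card_C : Nat.card (centralizer ({t} : Set G)) = 48 * Nat.card π.ker := by
  rw [Subgroup.card_eq_card_quotient_mul_card_subgroup π.ker,
    Nat.card_congr (QuotientGroup.quotientKerEquivOfSurjective π E.surj).toEquiv, card_GL23]

theorem Covered.ker_order_odd {o : centralizer ({t} : Set G)} (ho : o ∈ π.ker) : Odd (orderOf o) := by
  have : orderOf o ∣ Nat.card π.ker := by
    rw [← Subgroup.orderOf_mk o ho]; exact orderOf_dvd_natCard _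
  exact Odd.of_dvd_nat E.odd this

theorem Covered.sq_eq_one_ker {o : centralizer ({t} : Set G)} (ho : o ∈ π.ker) (h : o * o = 1) :
    o = 1 := by
  have h2 : orderOf o ∣ 2 := orderOf_dvd_of_pow_eq_one (by rw [pow_two, h])
  rw [← orderOf_eq_one_iff]
  exact Nat.eq_one_of_dvd_coprimes (Nat.coprime_two_right.2 (E.ker_order_odd ho)) dvd_rfl h2

/-- Elements over a non-square determinant: the whole coset is one class. -/
theorem Covered.conj_coset {c c' : centralizer ({t} : Set G)} (hc : (π c).val.det ≠ 1)
    (h : π c' = π c) : IsConj (c : G) (c' : G) := by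
  set o := c' * c⁻¹ with hodef
  have ho : o ∈ π.ker := by rw [MonoidHom.mem_ker, map_mul, map_inv, h, mul_inv_cancel]
  obtain ⟨k, hk⟩ := E.ker_order_odd ho
  have hk' : o ^ (2 * k + 1) = 1 := by rw [← hk, pow_orderOf_eq_one]
  set r := o ^ (k + 1) with hr
  have hrk : r ∈ π.ker := pow_mem ho _
  have hrr : r * r = o := by
    rw [hr, ← pow_add, show k + 1 + (k + 1) = 2 * k + 1 + 1 by ring, pow_succ, hk', one_mul]
  refine isConj_iff.2 ⟨(r : G), ?_⟩
  have : r * c * r⁻¹ = c' := by
    rw [mul_assoc, E.inv c r⁻¹ (inv_mem hrk) hc, inv_inv, ← mul_assoc, hrr, hodef,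
      inv_mul_cancel_right]
  exact congrArg Subtype.val this

/-- The lifts of a non-central involution are involutions. -/
theorem Covered.lift_invol {c : centralizer ({t} : Set G)} (h : π c * π c = 1)
    (hd : (π c).val.det ≠ 1) : c * c = 1 := by
  have ho : c * c ∈ π.ker := by rw [MonoidHom.mem_ker, map_mul, h]
  have h1 := E.inv c _ ho hd
  refine E.sq_eq_one_ker ho ?_
  have h2 : c * c * c = (c * c)⁻¹ * c := by rw [← h1, mul_assoc]
  exact eq_inv_iff_mul_eq_one.1 (mul_right_cancel h2)

/-- An element conjugating one lift to another centralizes `t`. -/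
theorem Covered.mem_of_conj {a b : GL23} {j : ℕ} (ha : a ^ j = T) (hb : b ^ j = 1 ∨ b ^ j = T)
    {c c' : centralizer ({t} : Set G)} (hc : π c = a) (hc' : π c' = b) {g : G}
    (hg : g * (c : G) * g⁻¹ = c') : g ∈ centralizer ({t} : Set G) ∧ b ^ j = T := by
  set m := Nat.card π.ker with hm
  have key : ∀ d : centralizer ({t} : Set G), π d ^ j = T → d ^ (j * m) = tC t := by
    intro d hd
    have ho : d ^ j * tC t ∈ π.ker := by
      rw [MonoidHom.mem_ker, map_mul, map_pow, hd, show π (tC t) = T from E.hT, X_pow.2.2.1]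
    have h1 : (d ^ j * tC t) ^ m = 1 := by
      have := congrArg Subtype.val (pow_card_eq_one' (x := (⟨_, ho⟩ : π.ker)))
      rwa [Subgroup.coe_pow, Subgroup.coe_one] at this
    obtain ⟨k, hk⟩ := E.odd
    have ht : tC t ^ m = tC t := by
      rw [hm, hk, pow_succ, pow_mul, pow_two, E.tC_sq, one_pow, one_mul]
    rw [(Commute.pow_left (tC_comm d).symm j).mul_pow, ← pow_mul, ht] at h1
    calc d ^ (j * m) = d ^ (j * m) * (tC t * tC t) := by rw [E.tC_sq, mul_one]
      _ = tC t := by rw [← mul_assoc, h1, one_mul]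
  have hcj : (c : G) ^ (j * m) = t := by
    have := congrArg Subtype.val (key c (by rw [hc]; exact ha))
    simpa [tC] using this
  have hbT : b ^ j = T := by
    refine hb.resolve_left fun hb1 => ?_
    have ho : c' ^ j ∈ π.ker := by rw [MonoidHom.mem_ker, map_pow, hc', hb1]
    have h1 : (c' : G) ^ (j * m) = 1 := by
      have := congrArg (fun x : π.ker => ((x : centralizer ({t} : Set G)) : G))
        (pow_card_eq_one' (x := (⟨_, ho⟩ : π.ker)))
      rw [pow_mul]
      rwa [Subgroup.coe_pow, Subgroup.coe_pow, Subgroup.coe_one, Subgroup.coe_one,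
        Subgroup.coe_pow] at this
    rw [← hg, conj_pow, hcj, mul_inv_eq_one, mul_eq_left] at h1
    have h2 := E.order
    rw [h1, orderOf_one] at h2
    norm_num at h2
  refine ⟨?_, hbT⟩
  have hcj' : (c' : G) ^ (j * m) = t := by
    have := congrArg Subtype.val (key c' (by rw [hc']; exact hbT))
    simpa [tC] using this
  rw [← hg, conj_pow, hcj, mul_inv_eq_iff_eq_mul] at hcj'
  exact mem_centralizer_singleton_iff.2 hcj'

omit E

/-- The fibre over an element. -/
noncomputable def fib [Fintype (centralizer ({t} : Set G))] (π : centralizer ({t} : Set G) →* GL23)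
    (a : GL23) : Finset (centralizer ({t} : Set G)) :=
  Finset.univ.filter fun c => π c = a

theorem mem_fib [Fintype (centralizer ({t} : Set G))] {a : GL23} {c : centralizer ({t} : Set G)} :
    c ∈ fib π a ↔ π c = a := by
  simp [fib]

/-- The average of a function over a fibre. -/
noncomputable def avg [Fintype (centralizer ({t} : Set G))] (π : centralizer ({t} : Set G) →* GL23)
    (f : G → ℂ) (a : GL23) : ℂ :=
  (Nat.card π.ker : ℂ)⁻¹ * ∑ c ∈ fib π a, f (c : G)

include E

theorem Covered.card_fib [Fintype (centralizer ({t} : Set G))] (a : GL23) :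
    (fib π a).card = Nat.card π.ker := by
  classical
  obtain ⟨c, rfl⟩ := E.surj a
  haveI := Fintype.ofFinite π.ker
  rw [Nat.card_eq_fintype_card, ← Finset.card_univ]
  symm
  refine Finset.card_bij (fun o _ => c * (o : centralizer ({t} : Set G))) (fun o _ => ?_) ?_ ?_
  · rw [mem_fib, map_mul, MonoidHom.mem_ker.1 o.2, mul_one]
  · exact fun o _ o' _ h => Subtype.ext (mul_left_cancel h)
  · intro d hd
    refine ⟨⟨c⁻¹ * d, ?_⟩, Finset.mem_univ _, mul_inv_cancel_left c d⟩
    rw [MonoidHom.mem_ker, map_mul, map_inv, mem_fib.1 hd, inv_mul_cancel]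

theorem Covered.avg_eq_of_const [Fintype (centralizer ({t} : Set G))] {f : G → ℂ} {a : GL23} {z : ℂ}
    (h : ∀ c : centralizer ({t} : Set G), π c = a → f (c : G) = z) : avg π f a = z := by
  rw [avg, Finset.sum_congr rfl fun c hc => h c (mem_fib.1 hc), Finset.sum_const, E.card_fib,
    nsmul_eq_mul, inv_mul_cancel_left₀ (Nat.cast_ne_zero.2 Nat.card_pos.ne')]

/-- Off the elements of determinant one a class function is constant on a fibre. -/
theorem Covered.avg_eq_apply [Fintype (centralizer ({t} : Set G))] {f : G → ℂ}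
    (hf : Cfsg.IsClassFunction G f) {c : centralizer ({t} : Set G)} (hd : (π c).val.det ≠ 1) :
    avg π f (π c) = f (c : G) :=
  E.avg_eq_of_const fun _ h =>
    (BlocksChars.ClassAlg.classFun_eq_of_isConj hf (E.conj_coset hd h)).symm

theorem Covered.avg_isClassFunction [Fintype (centralizer ({t} : Set G))] {f : G → ℂ}
    (hf : Cfsg.IsClassFunction G f) : Cfsg.IsClassFunction GL23 (avg π f) := by
  intro a k
  obtain ⟨d, rfl⟩ := E.surj k
  rw [avg, avg]
  congr 1
  refine Finset.sum_nbij' (fun c => d⁻¹ * c * d) (fun c => d * c * d⁻¹) ?_ ?_ ?_ ?_ ?_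
  · intro c hc
    simp only [mem_fib] at hc ⊢
    rw [map_mul, map_mul, map_inv, hc]
    group
  · intro c hc
    simp only [mem_fib] at hc ⊢
    rw [map_mul, map_mul, map_inv, hc]
  · intro c _; group
  · intro c _; group
  · intro c _
    rw [← hf (c : G) (d : G)⁻¹]
    simp

/-- The average of a character is a character of `GL(2, 3)`. -/
theorem Covered.avg_isCharacter [Fintype (centralizer ({t} : Set G))] {χ : G → ℂ}
    (hχ : Cfsg.IsCharacter G χ) : Cfsg.IsCharacter GL23 (avg π χ) := by
  classical
  refine isCharacter_of_classInner_nat (E.avg_isClassFunction (char_isClassFunction hχ)) fun η hη => ?_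
  obtain ⟨n, hn⟩ := classInner_char_nat (isCharacter_restrict (centralizer ({t} : Set G)) hχ)
    (isCharacter_comp π (isCharacter_of_isIrr hη))
  refine ⟨n, ?_⟩
  rw [← hn]
  simp only [classInner_def, avg, mul_assoc, Finset.sum_mul, ← Finset.mul_sum]
  rw [← Finset.sum_fiberwise Finset.univ π]
  rw [← mul_assoc, E.card_C, card_GL23, Nat.cast_mul, mul_inv]
  refine congrArg _ ?_
  refine Finset.sum_congr rfl fun a _ => ?_
  rw [fib]
  exact Finset.sum_congr rfl fun c hc => by rw [Function.comp_apply, (Finset.mem_filter.1 hc).2]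

/-- Orthogonality of the averaged columns. -/
theorem Covered.avg_orth [Fintype (centralizer ({t} : Set G))] [Fintype (Cfsg.IrrCharacter G)]
    {a b : GL23} {j : ℕ} (ha : a ^ j = T) (hb : b ^ j = 1 ∨ b ^ j = T) :
    ∑ χ : Cfsg.IrrCharacter G, avg π (χ : G → ℂ) a * conj (avg π (χ : G → ℂ) b) =
      (Nat.card {k : GL23 // k * a = b * k} : ℂ) := by
  classical
  haveI := Fintype.ofFinite G
  set n : ℂ := (Nat.card π.ker : ℂ) with hn
  have hn0 : n ≠ 0 := Nat.cast_ne_zero.2 Nat.card_pos.ne'
  have hcard : ∀ c c' : centralizer ({t} : Set G), c ∈ fib π a → c' ∈ fib π b →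
      ∑ χ : Cfsg.IrrCharacter G, (χ : G → ℂ) (c : G) * conj ((χ : G → ℂ) (c' : G)) =
        ((Finset.univ.filter fun d : centralizer ({t} : Set G) => d * c * d⁻¹ = c').card : ℂ) := by
    intro c c' hc hc'
    rw [second_orthogonality]
    split_ifs with h
    · obtain ⟨g, hg⟩ := isConj_iff.1 h
      obtain ⟨hgC, hbT⟩ := E.mem_of_conj ha hb (mem_fib.1 hc) (mem_fib.1 hc') hg
      congr 1
      haveI := Fintype.ofFinite (centralizer ({(c' : G)} : Set G))
      rw [Nat.card_eq_fintype_card, ← Finset.card_univ]
      refine Finset.card_bij (fun h _ => ⟨(h : G) * g, ?_⟩) (fun h _ => ?_) ?_ ?_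
      · refine mul_mem ?_ hgC
        exact (E.mem_of_conj (by rw [hbT]) (Or.inr hbT) (mem_fib.1 hc') (mem_fib.1 hc')
          (mul_inv_eq_iff_eq_mul.2 (mem_centralizer_singleton_iff.1 h.2))).1
      · refine Finset.mem_filter.2 ⟨Finset.mem_univ _, Subtype.ext ?_⟩
        change (h : G) * g * c * ((h : G) * g)⁻¹ = c'
        rw [mul_inv_rev, show (h : G) * g * c * (g⁻¹ * (h : G)⁻¹) = h * (g * c * g⁻¹) * (h : G)⁻¹ by group,
          hg]
        exact mul_inv_eq_iff_eq_mul.2 (mem_centralizer_singleton_iff.1 h.2)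
      · exact fun h _ h' _ e => Subtype.ext (mul_right_cancel (congrArg Subtype.val e))
      · intro d hd
        have hd' : (d : G) * c * (d : G)⁻¹ = c' := congrArg Subtype.val (Finset.mem_filter.1 hd).2
        refine ⟨⟨(d : G) * g⁻¹, mem_centralizer_singleton_iff.2 ?_⟩, Finset.mem_univ _,
          Subtype.ext (inv_mul_cancel_right _ _)⟩
        nth_rewrite 1 [← hg]
        rw [← hd']
        group
    · symm
      rw [Nat.cast_eq_zero, Finset.card_eq_zero, Finset.filter_eq_empty_iff]
      intro d _ he
      exact h (isConj_iff.2 ⟨(d : G), congrArg Subtype.val he⟩)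
  have hcount : ∀ c ∈ fib π a, ∑ c' ∈ fib π b,
      (Finset.univ.filter fun d : centralizer ({t} : Set G) => d * c * d⁻¹ = c').card =
        Nat.card π.ker * Nat.card {k : GL23 // k * a = b * k} := by
    intro c hc
    have h1 : ∑ c' ∈ fib π b, (Finset.univ.filter fun d : centralizer ({t} : Set G) => d * c * d⁻¹ = c').card =
        (Finset.univ.filter fun d : centralizer ({t} : Set G) => π d * a = b * π d).card := by
      rw [← Finset.card_biUnion]
      · congr 1
        ext d
        simp only [Finset.mem_biUnion, Finset.mem_filter, Finset.mem_univ, true_and]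
        constructor
        · rintro ⟨c', hc', he⟩
          rw [← mem_fib.1 hc', ← he, map_mul, map_mul, map_inv, mem_fib.1 hc, inv_mul_cancel_right]
        · exact fun h => ⟨d * c * d⁻¹, mem_fib.2 (by
            rw [map_mul, map_mul, map_inv, mem_fib.1 hc, h, mul_inv_cancel_right]), rfl⟩
      · intro x _ y _ hxy
        exact Finset.disjoint_filter.2 fun d _ e e' => hxy (e.symm.trans e')
    rw [h1, Nat.card_eq_fintype_card (α := {k : GL23 // k * a = b * k}), Fintype.card_subtype,
      ← Finset.sum_const_nat (s := Finset.univ.filter fun k : GL23 => k * a = b * k)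
        (f := fun k => (fib π k).card) (fun k _ => E.card_fib k) |>.trans (mul_comm _ _),
      ← Finset.card_biUnion]
    · refine congrArg Finset.card ?_
      ext d
      simp only [Finset.mem_biUnion, Finset.mem_filter, Finset.mem_univ, true_and, mem_fib]
      exact ⟨fun h => ⟨_, h, rfl⟩, fun ⟨k, hk, e⟩ => e ▸ hk⟩
    · intro x _ y _ hxy
      exact Finset.disjoint_left.2 fun d e e' => hxy ((mem_fib.1 e).symm.trans (mem_fib.1 e'))
  calc ∑ χ : Cfsg.IrrCharacter G, avg π (χ : G → ℂ) a * conj (avg π (χ : G → ℂ) b)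
      = n⁻¹ * n⁻¹ * ∑ c ∈ fib π a, ∑ c' ∈ fib π b,
          ∑ χ : Cfsg.IrrCharacter G, (χ : G → ℂ) (c : G) * conj ((χ : G → ℂ) (c' : G)) := by
        simp only [avg, map_mul, map_sum, map_inv₀, map_natCast, Finset.mul_sum, Finset.sum_mul]
        rw [Finset.sum_comm, Finset.sum_congr rfl fun _ _ => Finset.sum_comm, Finset.sum_comm]
        refine Finset.sum_congr rfl fun c _ => ?_
        exact Finset.sum_congr rfl fun c' _ => Finset.sum_congr rfl fun χ _ => by ring
    _ = n⁻¹ * n⁻¹ * ∑ _c ∈ fib π a,
          ((Nat.card π.ker * Nat.card {k : GL23 // k * a = b * k} : ℕ) : ℂ) := by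
        congr 1
        refine Finset.sum_congr rfl fun c hc => ?_
        rw [Finset.sum_congr rfl fun c' hc' => hcard c c' hc hc', ← hcount c hc, Nat.cast_sum]
    _ = (Nat.card {k : GL23 // k * a = b * k} : ℂ) := by
        rw [Finset.sum_const, E.card_fib, nsmul_eq_mul, Nat.cast_mul, ← hn]
        generalize (Nat.card {k : GL23 // k * a = b * k} : ℂ) = K
        field_simp

/-- An averaged column is orthogonal to the degrees. -/
theorem Covered.avg_degree [Fintype (centralizer ({t} : Set G))] [Fintype (Cfsg.IrrCharacter G)]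
    {a : GL23} (ha : a ≠ 1) :
    ∑ χ : Cfsg.IrrCharacter G, (χ : G → ℂ) 1 * conj (avg π (χ : G → ℂ) a) = 0 := by
  classical
  simp only [avg, map_mul, map_sum, Finset.mul_sum, ← mul_assoc]
  rw [Finset.sum_comm]
  refine Finset.sum_eq_zero fun c hc => ?_
  rw [Finset.sum_congr rfl (g := fun χ : Cfsg.IrrCharacter G =>
    conj ((Nat.card π.ker : ℂ)⁻¹) * ((χ : G → ℂ) 1 * conj ((χ : G → ℂ) (c : G)))) fun χ _ => by ring,
    ← Finset.mul_sum, second_orthogonality, if_neg, mul_zero]
  intro h
  have h1 : (c : G) = 1 := isConj_one_right.1 h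
  exact ha (by rw [← mem_fib.1 hc, show c = 1 from Subtype.ext h1, map_one])

/-- The averaged value of the trivial character. -/
theorem Covered.avg_one [Fintype (centralizer ({t} : Set G))] (a : GL23) :
    avg π (fun _ : G => (1 : ℂ)) a = 1 :=
  E.avg_eq_of_const fun _ _ => rfl

end Cfsg.Agent.GLTwoThree.Core
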