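import Cfsg.Agent.Lib.GLTwoThree.Core.Rows

/-!
# The order of a group with an involution centralizer `GL(2, 3)` up to an odd kernel

With a kernel of order `n` the orders `5616 * n ^ 3` and `7920 * n ^ 3` are left.
-/

set_option autoImplicit false
set_option linter.style.haveILetI false
set_option linter.unusedSectionVars false
set_option maxRecDepth 10000

namespace Cfsg.Agent.GLTwoThree.Core

open Subgroup Cfsg.Agent.Characters Cfsg.Agent.SelfNine
open scoped ComplexConjugate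

universe u

/-- The number of conjugations in `GL(2, 3)`, counted over the matrices. -/
theorem card_conj (a b : GL23) : Nat.card {k : GL23 // k * a = b * k} =
    ((Finset.univ : Finset M23).filter fun m => m.det ≠ 0 ∧ m * a.val = b.val * m).card := by
  classical
  rw [Nat.card_eq_fintype_card, Fintype.card_subtype]
  refine Finset.card_bij (fun k _ => k.val) (fun k hk => ?_) (fun _ _ _ _ h => Units.ext h) ?_
  · have h := congrArg Units.val (Finset.mem_filter.1 hk).2
    rw [Units.val_mul, Units.val_mul] at h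
    exact Finset.mem_filter.2 ⟨Finset.mem_univ _,
      ((Matrix.isUnit_iff_isUnit_det _).1 k.isUnit).ne_zero, h⟩
  · intro m hm
    obtain ⟨-, hd, he⟩ := Finset.mem_filter.1 hm
    exact ⟨((Matrix.isUnit_iff_isUnit_det m).2 (isUnit_iff_ne_zero.2 hd)).unit,
      Finset.mem_filter.2 ⟨Finset.mem_univ _, Units.ext he⟩, rfl⟩

theorem conj_counts : Nat.card {k : GL23 // k * T = T * k} = 48 ∧
    Nat.card {k : GL23 // k * X ^ 2 = X ^ 2 * k} = 8 ∧ Nat.card {k : GL23 // k * Y = Y * k} = 6 ∧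
    Nat.card {k : GL23 // k * X ^ 2 = T * k} = 0 ∧ Nat.card {k : GL23 // k * Y = T * k} = 0 ∧
    Nat.card {k : GL23 // k * X ^ 2 = Y * k} = 0 ∧ Nat.card {k : GL23 // k * X = X * k} = 8 ∧
    Nat.card {k : GL23 // k * X = X ^ 7 * k} = 0 ∧ Nat.card {k : GL23 // k * X = T * k} = 0 ∧
    Nat.card {k : GL23 // k * X = X ^ 2 * k} = 0 ∧ Nat.card {k : GL23 // k * X = Y * k} = 0 := by
  simp only [card_conj, Units.val_pow_eq_pow_val]
  decide +kernel

theorem pow_facts : (X ^ 2) ^ 2 = T ∧ T ^ 2 = 1 ∧ T ^ 3 = T ∧ (X ^ 2) ^ 6 = T ∧ Y ^ 6 = 1 ∧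
    (X ^ 7) ^ 4 = T ∧ (X ^ 2) ^ 4 = 1 ∧ T ^ 4 = 1 ∧ X ^ 12 = T ∧ Y ^ 12 = 1 ∧ T ^ 1 = T ∧ (Y ^ 5) ^ 3 = T ∧
    (∀ k ∈ invY, k.val.det ≠ 1) ∧ Y ≠ 1 ∧ X ≠ 1 ∧ X ^ 2 ≠ 1 ∧ T ≠ 1 := by
  simp only [← pow_mul, ne_eq, ext_val, Units.val_pow_eq_pow_val, Units.val_one, invY, List.mem_map,
    forall_exists_index, and_imp, forall_apply_eq_imp_iff₂, Units.val_mul, Matrix.det_fin_two]
  decide +kernel

variable {G : Type u} [Group G] [Finite G] {t : G} {π : centralizer ({t} : Set G) →* GL23}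
  (E : Covered t π)
include E

/-- The elements of the fibre over `Y` are inverted by six cosets of involutions. -/
theorem Covered.inverters (hconj : ∀ u : G, orderOf u = 2 → IsConj t u)
    {g : centralizer ({t} : Set G)} (hg : π g = Y) :
    Nat.card {u : G // IsConj t u ∧ IsConj t (u⁻¹ * (g : G))} = 6 * Nat.card π.ker := by
  classical
  haveI := Fintype.ofFinite (centralizer ({t} : Set G))
  have hinv : ∀ {v : G}, IsConj t v → v * v = 1 ∧ v ≠ 1 := by
    intro v hv
    obtain ⟨g, rfl⟩ := isConj_iff.1 hv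
    have ht2 : t * t = 1 := by rw [← pow_two, ← E.order, pow_orderOf_eq_one]
    refine ⟨by rw [conj_mul, ht2, mul_one, mul_inv_cancel], fun h => ?_⟩
    rw [mul_inv_eq_one, mul_eq_left] at h
    have h2 := E.order
    rw [h, orderOf_one] at h2
    norm_num at h2
  have hback : ∀ {v : G}, v * v = 1 → v ≠ 1 → IsConj t v := fun h1 h2 =>
    hconj _ (orderOf_eq_prime (p := 2) (by rw [pow_two, h1]) h2)
  have hker : ∀ d : centralizer ({t} : Set G), π d = 1 → (d : G) * d = 1 → d = 1 := fun d h h' =>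
    E.sq_eq_one_ker (MonoidHom.mem_ker.2 h) (Subtype.ext h')
  have hset : ∀ u : G, (IsConj t u ∧ IsConj t (u⁻¹ * (g : G))) ↔
      u ∈ ((Finset.univ.filter fun d : centralizer ({t} : Set G) => π d ∈ invY).map
        (Function.Embedding.subtype _)) := by
    intro u
    simp only [Finset.mem_map, Finset.mem_filter, Finset.mem_univ, true_and, Function.Embedding.coe_subtype]
    constructor
    · rintro ⟨h1, h2⟩
      obtain ⟨hu, hu1⟩ := hinv h1
      rw [inv_eq_of_mul_eq_one_right hu] at h2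
      obtain ⟨hv, hv1⟩ := hinv h2
      have hconj' : u * (g : G) * u⁻¹ = ((g⁻¹ : centralizer ({t} : Set G)) : G) := by
        rw [inv_eq_of_mul_eq_one_right hu, Subgroup.coe_inv]
        exact eq_inv_of_mul_eq_one_left (by rw [← hv]; group)
      have hYinv : π g⁻¹ = Y ^ 5 := by
        rw [map_inv, hg, eq_comm]
        exact eq_inv_of_mul_eq_one_left (by rw [← pow_succ, pow_facts.2.2.2.2.1])
      obtain ⟨huC, -⟩ := E.mem_of_conj (a := Y) (b := Y ^ 5) (j := 3) Y_pow.1
        (Or.inr pow_facts.2.2.2.2.2.2.2.2.2.2.2.1) hg hYinv hconj'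
      set d : centralizer ({t} : Set G) := ⟨u, huC⟩ with hd
      have hd2 : d * d = 1 := Subtype.ext hu
      have hdg : d * g * (d * g) = 1 := Subtype.ext hv
      refine ⟨d, (invY_iff (π d)).1 ⟨by rw [← map_mul, hd2, map_one], fun e => hu1 ?_,
        by rw [← hg, ← map_mul, ← map_mul, hdg, map_one], T_central _, fun e => hv1 ?_⟩, rfl⟩
      · exact congrArg Subtype.val (hker d e hu)
      · exact congrArg Subtype.val (hker (d * g) (by rw [map_mul, hg, e]) hv)
    · rintro ⟨d, hd, rfl⟩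
      have hdet := pow_facts.2.2.2.2.2.2.2.2.2.2.2.2.1 _ hd
      obtain ⟨h1, h2, h3, -, h5⟩ := (invY_iff (π d)).2 hd
      have hu : d * d = 1 := E.lift_invol h1 hdet
      have hv : d * g * (d * g) = 1 := E.lift_invol (by rw [map_mul, hg, h3])
        (by rw [map_mul, hg, Units.val_mul, Matrix.det_mul, det_facts.2.2.2.2.2.2, mul_one]; exact hdet)
      refine ⟨hback (congrArg Subtype.val hu) fun e => h2 ?_, ?_⟩
      · rw [show d = 1 from Subtype.ext e, map_one]
      · rw [inv_eq_of_mul_eq_one_right (congrArg Subtype.val hu)]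
        refine hback (congrArg Subtype.val hv) fun e => h5 ?_
        rw [← hg, ← map_mul, show d * g = 1 from Subtype.ext e, map_one]
  rw [Nat.card_congr (Equiv.subtypeEquivRight hset), Nat.card_eq_finsetCard, Finset.card_map]
  calc (Finset.univ.filter fun d : centralizer ({t} : Set G) => π d ∈ invY).card
      = ∑ k ∈ invY.toFinset, (fib π k).card := by
        rw [Finset.card_eq_sum_card_fiberwise (f := π) (t := invY.toFinset)
          (fun d hd => List.mem_toFinset.2 (Finset.mem_filter.1 (Finset.mem_coe.1 hd)).2)]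
        refine Finset.sum_congr rfl fun k hk => congrArg Finset.card ?_
        ext d
        simp only [Finset.mem_filter, Finset.mem_univ, true_and, mem_fib]
        exact ⟨fun h => h.2, fun h => ⟨h ▸ List.mem_toFinset.1 hk, h⟩⟩
    _ = 6 * Nat.card π.ker := by
        rw [Finset.sum_congr rfl fun k _ => E.card_fib k, Finset.sum_const,
          List.toFinset_card_of_nodup invY_nodup, smul_eq_mul]
        simp [invY]

set_option maxHeartbeats 800000 in
theorem Covered.order_cases (hconj : ∀ u : G, orderOf u = 2 → IsConj t u)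
    (hlin : ∀ lam : G →* ℂˣ, lam = 1) :
    Nat.card G = 5616 * Nat.card π.ker ^ 3 ∨ Nat.card G = 7920 * Nat.card π.ker ^ 3 := by
  classical
  haveI := Fintype.ofFinite G
  haveI := Fintype.ofFinite (Cfsg.IrrCharacter G)
  haveI := Fintype.ofFinite (centralizer ({t} : Set G))
  have hM : ∃ M : Ideal Cfsg.AlgInt, Cfsg.IsPModular 2 M := CentFour.exists_modular_two
  choose v hv using E.exists_arow
  choose f hF using fun χ : Cfsg.IrrCharacter G => char_one_nat (irr_isCharacter χ)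
  set triv := trivIrr G with htriv
  have F : ∀ χ : Cfsg.IrrCharacter G, (χ : G → ℂ) 1 = (((f χ : ℤ)) : ℂ) := fun χ => by
    rw [hF, Int.cast_natCast]
  obtain ⟨p22, p2T, -, p26, pY6, -, p24, pT4, pX12, pY12, pT1, -, -, nY, nX, n2, nT⟩ := pow_facts
  obtain ⟨nTT, nWW, nYY, nTW, nTY, nWY, nXX, nX7, nXT, nXW, nXY⟩ := conj_counts
  have o2 : ∀ (p q : Cfsg.IrrCharacter G → ℤ) (a b : GL23) (j : ℕ) (k : ℕ), a ^ j = T →
      (b ^ j = 1 ∨ b ^ j = T) → (∀ χ : Cfsg.IrrCharacter G, avg π (χ : G → ℂ) a = (p χ : ℂ)) →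
      (∀ χ : Cfsg.IrrCharacter G, avg π (χ : G → ℂ) b = (q χ : ℂ)) →
      Nat.card {g : GL23 // g * a = b * g} = k → ∑ χ, p χ * q χ = (k : ℤ) := by
    intro p q a b j k ha hb hp hq hk
    have key := E.avg_orth ha hb
    simp only [hp, hq, map_intCast, hk] at key
    exact_mod_cast key
  have TT := fun χ => (hv χ).t'
  have X2 := fun χ => (hv χ).x2
  have YY := fun χ => (hv χ).y'
  have ktt := o2 _ _ _ _ 1 48 pT1 (Or.inr pT1) TT TT nTT
  have kww := o2 _ _ _ _ 2 8 p22 (Or.inr p22) X2 X2 nWW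
  have kyy := o2 _ _ _ _ 3 6 Y_pow.1 (Or.inr Y_pow.1) YY YY nYY
  have ktw : ∑ χ, (v χ).x * (v χ).y = 0 := by
    have h := o2 _ _ _ _ 2 0 p22 (Or.inl p2T) X2 TT nTW
    rw [Nat.cast_zero] at h
    rw [← h]; exact Finset.sum_congr rfl fun _ _ => mul_comm _ _
  have kty : ∑ χ, (v χ).x * (v χ).z = 0 := by
    have h := o2 _ _ _ _ 3 0 Y_pow.1 (Or.inr pow_facts.2.2.1) YY TT nTY
    rw [Nat.cast_zero] at h
    rw [← h]
    exact Finset.sum_congr rfl fun _ _ => mul_comm _ _
  have kwy := o2 _ _ _ _ 6 0 p26 (Or.inl pY6) X2 YY nWY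
  push_cast at ktt kww kyy kwy
  have mixed : ∀ (p : Cfsg.IrrCharacter G → ℤ) (b : GL23) (j : ℕ),
      X ^ j = T → (b ^ j = 1 ∨ b ^ j = T) → Nat.card {g : GL23 // g * X = b * g} = 0 →
      (∀ χ : Cfsg.IrrCharacter G, avg π (χ : G → ℂ) b = (p χ : ℂ)) →
      (∑ χ, p χ * (v χ).w = 0) ∧ ∑ χ, p χ * (v χ).u = 0 := by
    intro p b j hj hb hk hp
    have key := E.avg_orth hj hb
    simp only [hp, hk, (hv _).x', map_intCast, Nat.cast_zero] at key
    have h0 : ((∑ χ, (p χ * (v χ).w : ℤ) : ℚ) : ℂ) + ((∑ χ, (p χ * (v χ).u : ℤ) : ℚ) : ℂ) * root = 0 := by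
      rw [← key]
      push_cast
      rw [Finset.sum_mul, ← Finset.sum_add_distrib]
      exact Finset.sum_congr rfl fun χ _ => by ring
    obtain ⟨h1, h2⟩ := eq_zero_of_add_root h0
    exact ⟨by exact_mod_cast h1, by exact_mod_cast h2⟩
  obtain ⟨kta, ktb⟩ := mixed _ T 4 X_pow.1 (Or.inl pT4) nXT TT
  obtain ⟨kwa, kwb⟩ := mixed _ (X ^ 2) 4 X_pow.1 (Or.inl p24) nXW X2
  obtain ⟨kya, kyb⟩ := mixed _ Y 12 pX12 (Or.inl pY12) nXY YY
  obtain ⟨kfa, kfb⟩ : (∑ χ, (f χ : ℤ) * (v χ).w = 0) ∧ ∑ χ, (f χ : ℤ) * (v χ).u = 0 := by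
    have key := E.avg_degree nX
    simp only [F, (hv _).x', map_add, map_mul, conj_root, map_intCast] at key
    have h0 : ((∑ χ, ((f χ : ℤ) * (v χ).w : ℤ) : ℚ) : ℂ) +
        ((-∑ χ, ((f χ : ℤ) * (v χ).u : ℤ) : ℚ) : ℂ) * root = 0 := by
      rw [← key]
      push_cast
      rw [neg_mul, Finset.sum_mul, ← Finset.sum_neg_distrib, ← Finset.sum_add_distrib]
      exact Finset.sum_congr rfl fun χ _ => by ring
    obtain ⟨h1, h2⟩ := eq_zero_of_add_root h0
    rw [neg_eq_zero] at h2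
    exact ⟨by exact_mod_cast h1, by exact_mod_cast h2⟩
  have kdeg : ∀ (p : Cfsg.IrrCharacter G → ℤ) (a : GL23), a ≠ 1 →
      (∀ χ : Cfsg.IrrCharacter G, avg π (χ : G → ℂ) a = (p χ : ℂ)) → ∑ χ, (f χ : ℤ) * p χ = 0 := by
    intro p a ha hp
    have key := E.avg_degree ha
    simp only [hp, F, map_intCast] at key
    exact_mod_cast key
  have ktf := kdeg _ T nT TT
  have kwf := kdeg _ (X ^ 2) n2 X2
  have kyf := kdeg _ Y nY YY
  have kxx : ∑ χ, ((v χ).w * (v χ).w + 2 * ((v χ).u * (v χ).u)) = 8 := by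
    have key := E.avg_orth (a := X) (b := X) (j := 4) X_pow.1 (Or.inr X_pow.1)
    simp only [(hv _).x', map_add, map_mul, conj_root, map_intCast, nXX, Nat.cast_ofNat] at key
    have h0 : ((∑ χ, ((v χ).w * (v χ).w + 2 * ((v χ).u * (v χ).u)) : ℤ) : ℂ) = 8 := by
      rw [← key]
      push_cast
      exact Finset.sum_congr rfl fun χ _ => by
        linear_combination (((v χ).u : ℂ) * ((v χ).u : ℂ)) * root_sq
    exact_mod_cast h0
  have kx7 : ∑ χ, ((v χ).w * (v χ).w - 2 * ((v χ).u * (v χ).u)) = 0 ∧ ∑ χ, 2 * ((v χ).w * (v χ).u) = 0 := by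
    have key := E.avg_orth (a := X) (b := X ^ 7) (j := 4) X_pow.1 (Or.inr pow_facts.2.2.2.2.2.1)
    simp only [(hv _).x', (hv _).x7, map_sub, map_mul, conj_root, map_intCast, nX7, Nat.cast_zero] at key
    have h0 : ((∑ χ, (((v χ).w * (v χ).w - 2 * ((v χ).u * (v χ).u) : ℤ)) : ℚ) : ℂ) +
        ((∑ χ, (2 * ((v χ).w * (v χ).u) : ℤ) : ℚ) : ℂ) * root = 0 := by
      rw [← key]
      push_cast
      rw [Finset.sum_mul, ← Finset.sum_add_distrib]
      exact Finset.sum_congr rfl fun χ _ => by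
        linear_combination (-((v χ).u : ℂ) * ((v χ).u : ℂ)) * root_sq
    obtain ⟨h1, h2⟩ := eq_zero_of_add_root h0
    exact ⟨by exact_mod_cast h1, by exact_mod_cast h2⟩
  have kaa : ∑ χ, (v χ).w * (v χ).w = 4 := by
    have h1 := kxx
    have h2 := kx7.1
    rw [Finset.sum_add_distrib, ← Finset.mul_sum] at h1
    rw [Finset.sum_sub_distrib, ← Finset.mul_sum] at h2
    omega
  have kbb : ∑ χ, (v χ).u * (v χ).u = 2 := by
    have h1 := kxx
    rw [Finset.sum_add_distrib, ← Finset.mul_sum] at h1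
    omega
  have kab : ∑ χ, (v χ).w * (v χ).u = 0 := by
    have h1 := kx7.2
    rw [← Finset.mul_sum] at h1
    omega
  -- the trivial row
  set ones : V5 := ⟨1, 1, 1, 1, 0⟩ with hones
  have hone : v triv = ones ∧ f triv = 1 := by
    have h1 := F triv
    have h2 := (hv triv).t'
    have h3 := (hv triv).x2
    have h4 := (hv triv).y'
    have h5 := (hv triv).x'
    simp only [htriv, trivIrr_coe, E.avg_one] at h1 h2 h3 h4 h5
    have a : (v triv).x = 1 := by rw [htriv]; exact_mod_cast h2.symm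
    have b : (v triv).y = 1 := by rw [htriv]; exact_mod_cast h3.symm
    have c : (v triv).z = 1 := by rw [htriv]; exact_mod_cast h4.symm
    have d : (v triv).w = 1 ∧ (v triv).u = 0 := by
      have h5' : ((((v triv).w - 1 : ℤ) : ℚ) : ℂ) + (((v triv).u : ℤ) : ℚ) * root = 0 := by
        rw [htriv]
        simp only [Rat.cast_intCast]
        rw [Int.cast_sub, Int.cast_one]
        linear_combination -h5
      obtain ⟨hA, hB⟩ := eq_zero_of_add_root h5'
      rw [Int.cast_eq_zero] at hA hB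
      exact ⟨by omega, hB⟩
    refine ⟨?_, by rw [htriv]; exact_mod_cast h1.symm⟩
    generalize v triv = V at a b c d
    obtain ⟨_, _, _, _, _⟩ := V
    simp only at a b c d
    obtain ⟨d, e⟩ := d
    subst a b c d e
    rfl
  set zero : V5 := ⟨0, 0, 0, 0, 0⟩ with hzero
  set S := (Finset.univ.erase triv).filter fun χ => v χ ≠ zero with hS
  set sg : Cfsg.IrrCharacter G → ℤ := fun χ => if v χ ∈ glCands then 1 else -1 with hsg
  have sg2 : ∀ χ, sg χ * sg χ = 1 := fun χ => by simp only [hsg]; split_ifs <;> norm_num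
  set can : Cfsg.IrrCharacter G → V5 := fun χ => scale (sg χ) (v χ) with hcan
  set sf : Cfsg.IrrCharacter G → ℤ := fun χ => sg χ * (f χ : ℤ) with hsf
  have hsplit : ∀ (T : Cfsg.IrrCharacter G → ℤ), (∀ χ, v χ = zero → T χ = 0) →
      ∑ χ, T χ = T triv + ∑ χ ∈ S, T χ := fun T hT => by
    rw [← Finset.add_sum_erase _ _ (Finset.mem_univ triv), hS]
    congr 1
    symm
    exact Finset.sum_filter_of_ne (p := fun χ => v χ ≠ zero) fun χ _ h e => h (hT χ e)
  have hsplitQ : ∀ (T : Cfsg.IrrCharacter G → ℚ), (∀ χ, v χ = zero → T χ = 0) →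
      ∑ χ, T χ = T triv + ∑ χ ∈ S, T χ := fun T hT => by
    rw [← Finset.add_sum_erase _ _ (Finset.mem_univ triv), hS]
    congr 1
    symm
    exact Finset.sum_filter_of_ne (p := fun χ => v χ ≠ zero) fun χ _ h e => h (hT χ e)
  have gram : ∀ (p q : V5 → ℤ) (k : ℤ), (∀ s a, p (scale s a) = s * p a) →
      (∀ s a, q (scale s a) = s * q a) →
      (∑ χ, p (v χ) * q (v χ)) = k → ∑ χ ∈ S, p (can χ) * q (can χ) = k - p ones * q ones := by
    intro p q k hp hq hk
    have hp0 : p zero = 0 := by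
      have := hp 0 zero
      rwa [zero_mul, show scale 0 zero = zero from rfl] at this
    rw [hsplit _ (fun χ e => by rw [e, hp0, zero_mul]), hone.1] at hk
    rw [Finset.sum_congr rfl (g := fun χ => p (v χ) * q (v χ)) fun χ _ => by
      simp only [hcan, hp, hq]
      linear_combination (p (v χ) * q (v χ)) * sg2 χ]
    linarith
  set rows := S.toList.map can with hrows
  have htot : total rows = glGram := by
    rw [hrows, total_map,
      gram (·.x) (·.x) _ (fun _ _ => rfl) (fun _ _ => rfl) ktt,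
      gram (·.y) (·.y) _ (fun _ _ => rfl) (fun _ _ => rfl) kww,
      gram (·.z) (·.z) _ (fun _ _ => rfl) (fun _ _ => rfl) kyy,
      gram (·.w) (·.w) _ (fun _ _ => rfl) (fun _ _ => rfl) kaa,
      gram (·.u) (·.u) _ (fun _ _ => rfl) (fun _ _ => rfl) kbb,
      gram (·.x) (·.y) _ (fun _ _ => rfl) (fun _ _ => rfl) ktw,
      gram (·.x) (·.z) _ (fun _ _ => rfl) (fun _ _ => rfl) kty,
      gram (·.x) (·.w) _ (fun _ _ => rfl) (fun _ _ => rfl) kta,
      gram (·.x) (·.u) _ (fun _ _ => rfl) (fun _ _ => rfl) ktb,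
      gram (·.y) (·.z) _ (fun _ _ => rfl) (fun _ _ => rfl) kwy,
      gram (·.y) (·.w) _ (fun _ _ => rfl) (fun _ _ => rfl) kwa,
      gram (·.y) (·.u) _ (fun _ _ => rfl) (fun _ _ => rfl) kwb,
      gram (·.z) (·.w) _ (fun _ _ => rfl) (fun _ _ => rfl) kya,
      gram (·.z) (·.u) _ (fun _ _ => rfl) (fun _ _ => rfl) kyb,
      gram (·.w) (·.u) _ (fun _ _ => rfl) (fun _ _ => rfl) kab]
    simp [glGram, hones]
  have hmemS : ∀ χ ∈ S, can χ ∈ glCands := by
    intro χ hχ
    have hbox : (glGram.subSq (v χ)).Ok = true := by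
      have hr : can χ ∈ rows := List.mem_map.2 ⟨χ, Finset.mem_toList.2 hχ, rfl⟩
      have ht : total (rows.erase (can χ)) = glGram.subSq (can χ) := by
        rw [← htot, total_perm (List.perm_cons_erase hr), total, subSq_addSq]
      have hok := ok_total (rows.erase (can χ))
      rw [ht] at hok
      have e : glGram.subSq (can χ) = glGram.subSq (v χ) := by
        simp only [hcan, hsg]
        split_ifs <;> simp [scale, M5.subSq]
      rwa [e] at hok
    have hb := hbox
    simp only [M5.Ok, decide_eq_true_eq] at hb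
    simp only [M5.subSq, glGram] at hb
    obtain ⟨bx, by', bz, bw, bu, -⟩ := hb
    obtain ⟨i, hi⟩ := natCast_oct_cases (x := (v χ).x) (c := 47) (b := 6) (by push_cast; linarith) (by norm_num)
    obtain ⟨j, hj⟩ := natCast_oct_cases (x := (v χ).y) (c := 7) (b := 2) (by push_cast; linarith) (by norm_num)
    obtain ⟨k, hk⟩ := natCast_oct_cases (x := (v χ).z) (c := 5) (b := 2) (by push_cast; linarith) (by norm_num)
    obtain ⟨a, ha⟩ := natCast_oct_cases (x := (v χ).w) (c := 3) (b := 1) (by push_cast; linarith) (by norm_num)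
    obtain ⟨b, hb'⟩ := natCast_oct_cases (x := (v χ).u) (c := 2) (b := 1) (by push_cast; linarith) (by norm_num)
    have hc := glCands_cover i j k a b
    have hv5 : v χ = ⟨((i : ℕ) : ℤ) - 6, ((j : ℕ) : ℤ) - 2, ((k : ℕ) : ℤ) - 2, ((a : ℕ) : ℤ) - 1, ((b : ℕ) : ℤ) - 1⟩ := by
      push_cast at hi hj hk ha hb'
      rw [← hi, ← hj, ← hk, ← ha, ← hb']
    rw [← hv5] at hc
    have e1 := (hv χ).e1
    have e2 := (hv χ).e2
    have e3 := (hv χ).e3
    simp only [glCover, hbox, e1, e2, e3, beq_self_eq_true, Bool.and_self, Bool.not_true,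
      Bool.false_or, decide_eq_true_eq] at hc
    rcases hc with h | h | h
    · exact absurd h (Finset.mem_filter.1 hχ).2
    · simp only [hcan, hsg, if_pos h, scale, one_mul]; exact h
    · simp only [hcan, hsg]
      split_ifs with h'
      · simp only [scale, one_mul]; exact h'
      · simp only [scale, neg_one_mul]; exact h
  have hperm := gl_rows (rows := rows) (fun a ha => by
    obtain ⟨χ, hχ, rfl⟩ := List.mem_map.1 ha
    exact hmemS χ (Finset.mem_toList.1 hχ)) htot
  obtain ⟨ls, hls, hlmap⟩ := perm_lift can glRows S.toList hperm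
  have hlen : ls.length = 7 := by
    have := congrArg List.length hlmap
    simpa [glRows] using this
  obtain ⟨rD, rC, rA, rF, rE', rE, rB, rfl⟩ : ∃ a b c d e g h, ls = [a, b, c, d, e, g, h] := by
    match ls, hlen with
    | [a, b, c, d, e, g, h], _ => exact ⟨a, b, c, d, e, g, h, rfl⟩
  simp only [glRows, List.map_cons, List.map_nil, List.cons.injEq, and_true] at hlmap
  obtain ⟨qD, qC, qA, qF, qE', qE, qB⟩ := hlmap
  have colS : ∀ (p : V5 → ℤ), (∀ s a, p (scale s a) = s * p a) →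
      (∑ χ, (f χ : ℤ) * p (v χ)) = 0 →
      p (can rD) * sf rD + p (can rC) * sf rC + p (can rA) * sf rA + p (can rF) * sf rF +
        p (can rE') * sf rE' + p (can rE) * sf rE + p (can rB) * sf rB = - p ones := by
    intro p hp hk
    have hp0 : p zero = 0 := by
      have := hp 0 zero
      rwa [zero_mul, show scale 0 zero = zero from rfl] at this
    rw [hsplit _ (fun χ e => by rw [e, hp0, mul_zero]), hone.1, hone.2, Nat.cast_one, one_mul] at hk
    rw [Finset.sum_congr rfl (g := fun χ => p (can χ) * sf χ) fun χ _ => by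
      simp only [hcan, hsf, hp]
      linear_combination (-(p (v χ) * (f χ : ℤ))) * sg2 χ,
      ← sum_perm_toList S hls fun χ => p (can χ) * sf χ] at hk
    simp only [List.map_cons, List.map_nil, List.sum_cons, List.sum_nil] at hk
    linarith
  have st := colS (·.x) (fun _ _ => rfl) ktf
  have sw := colS (·.y) (fun _ _ => rfl) kwf
  have sy := colS (·.z) (fun _ _ => rfl) kyf
  have sa := colS (·.w) (fun _ _ => rfl) kfa
  have sb := colS (·.u) (fun _ _ => rfl) kfb
  simp only [qD, qC, qA, qF, qE', qE, qB, hones] at st sw sy sa sb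
  have hf0 : ∀ χ, (f χ : ℚ) ≠ 0 := fun χ => by
    have := irr_one_ne_zero χ.2
    rw [hF] at this
    exact_mod_cast this
  have hsf0 : ∀ χ, sf χ ≠ 0 := fun χ => by
    simp only [hsf]
    refine mul_ne_zero (fun h => by have := sg2 χ; rw [h] at this; simp at this) ?_
    exact_mod_cast fun h : f χ = 0 => hf0 χ (by exact_mod_cast h)
  have hx0 : ∀ χ, v χ ≠ zero → (v χ).x ≠ 0 := by
    intro χ hne
    by_cases ht : χ = triv
    · rw [ht, hone.1]; simp [hones]
    have hm : can χ ∈ glRows := hperm.symm.subset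
      (List.mem_map.2 ⟨χ, Finset.mem_toList.2 (Finset.mem_filter.2
        ⟨Finset.mem_erase.2 ⟨ht, Finset.mem_univ _⟩, hne⟩), rfl⟩)
    intro h0
    have : (can χ).x = 0 := by simp [hcan, scale, h0]
    have hall : ∀ r ∈ glRows, r.x ≠ 0 := by decide
    exact hall _ hm this
  have hcong : ∀ χ, (can χ).x ≠ 0 → (sf χ + (can χ).x + 2 * (can χ).y + 4 * (can χ).w) % 8 = 0 ∧
      (sf χ - (can χ).x + 4 * (can χ).u) % 8 = 0 := fun χ hc => by
    have hx : (v χ).x ≠ 0 := fun h0 => hc (by simp [hcan, scale, h0])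
    obtain ⟨-, h1, h2⟩ := E.cong_eight hM (hF χ) (hv χ) hx
    simp only [hsf, hcan, hsg, scale]
    split_ifs <;> constructor <;> omega
  have hB8 : sf rB % 8 = 1 := by
    have h := (hcong rB (by rw [qB]; simp)).1
    rw [qB] at h; simp only at h; omega
  have hD8 : sf rD % 8 = 4 := by
    have h := (hcong rD (by rw [qD]; simp)).1
    rw [qD] at h; simp only at h; omega
  -- the class multiplication constants
  have sub : ∀ (q : V5 → ℤ), q zero = 0 → ∀ χ : Cfsg.IrrCharacter G,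
      (χ : G → ℂ) t * (χ : G → ℂ) t * (q (v χ) : ℂ) =
        ((v χ).x : ℂ) * ((v χ).x : ℂ) * (q (v χ) : ℂ) := by
    intro q hq χ
    by_cases hne : v χ = zero
    · rw [hne, hq]; simp
    · rw [(E.cong_eight hM (hF χ) (hv χ) (hx0 χ hne)).1]
  have hn : (Nat.card G : ℂ) ≠ 0 := natCard_ne_zero
  set N := Nat.card π.ker with hN
  have hs := BlocksChars.ClassAlg.classSize_mul_card_centralizer t
  rw [E.card_C] at hs
  have s1 : (BlocksChars.ClassAlg.classSize t : ℂ) * (48 * (N : ℂ)) = (Nat.card G : ℂ) := by exact_mod_cast hs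
  obtain ⟨gx, hgx⟩ := E.surj X
  have hzero' : Nat.card {u : G // IsConj t u ∧ IsConj t (u⁻¹ * (gx : G))} = 0 := by
    rw [Nat.card_eq_zero]
    refine Or.inl ⟨fun ⟨u, h1, h2⟩ => ?_⟩
    have sq : ∀ {g : G}, IsConj t g → g * g = 1 := fun {g} hg => by
      obtain ⟨k, rfl⟩ := isConj_iff.1 hg
      rw [conj_mul, ← pow_two t, ← E.order, pow_orderOf_eq_one, mul_one, mul_inv_cancel]
    have hu := sq h1
    have hui : u⁻¹ = u := inv_eq_of_mul_eq_one_right hu
    have hux := sq h2
    rw [hui] at hux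
    have hcj : u * (gx : G) * u⁻¹ = ((gx⁻¹ : centralizer ({t} : Set G)) : G) := by
      rw [hui, Subgroup.coe_inv]
      exact eq_inv_of_mul_eq_one_left (by rw [← hux]; group)
    have hX7 : π gx⁻¹ = X ^ 7 := by
      rw [map_inv, hgx, eq_comm]
      exact eq_inv_of_mul_eq_one_left (by
        rw [← pow_succ, show 7 + 1 = 4 + 4 from rfl, pow_add, X_pow.1, X_pow.2.2.1])
    obtain ⟨huC, -⟩ := E.mem_of_conj (a := X) (b := X ^ 7) (j := 4) X_pow.1
      (Or.inr pow_facts.2.2.2.2.2.1) hgx hX7 hcj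
    have e : (⟨u, huC⟩ : centralizer ({t} : Set G)) * gx = gx⁻¹ * ⟨u, huC⟩ :=
      Subtype.ext (mul_inv_eq_iff_eq_mul.1 hcj)
    have := congrArg π e
    rw [map_mul, map_mul, hgx, hX7] at this
    exact not_conj_X _ this
  have sumx : ∑ χ, ((v χ).x : ℚ) * (v χ).x * (v χ).w / (f χ : ℚ) = 0 := by
    have h2 := Recognition.SelfCentNine.card_mul_eq t t (gx : G)
    rw [hzero'] at h2
    simp only [Nat.cast_zero, mul_zero] at h2
    have hval : ∀ χ : Cfsg.IrrCharacter G, (χ : G → ℂ) (gx : G) =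
        ((v χ).w : ℂ) + ((v χ).u : ℂ) * root := fun χ => by
      rw [← E.avg_eq_apply (irr_isClassFunction χ) (c := gx) (by rw [hgx]; exact det_facts.1), hgx,
        (hv χ).x']
    have hterm : ∀ χ : Cfsg.IrrCharacter G,
        (χ : G → ℂ) t * (χ : G → ℂ) t * conj ((χ : G → ℂ) (gx : G)) / (χ : G → ℂ) 1 =
          (((v χ).x : ℂ) * (v χ).x * (v χ).w + -(((v χ).x : ℂ) * (v χ).x * (v χ).u) * root) / (f χ : ℂ) := by
      intro χ
      rw [hval, hF, map_add, map_mul, conj_root, map_intCast, map_intCast]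
      congr 1
      linear_combination sub (·.w) rfl χ - root * sub (·.u) rfl χ
    rw [Finset.sum_congr rfl fun χ _ => hterm χ] at h2
    have hcs : (BlocksChars.ClassAlg.classSize t : ℂ) ≠ 0 := fun e => by
      rw [e, zero_mul] at s1; exact hn s1.symm
    have h3 := (mul_eq_zero.1 h2.symm).resolve_left (mul_ne_zero hcs hcs)
    have h0 : ((∑ χ, ((v χ).x : ℚ) * (v χ).x * (v χ).w / (f χ : ℚ) : ℚ) : ℂ) +
        ((-∑ χ, ((v χ).x : ℚ) * (v χ).x * (v χ).u / (f χ : ℚ) : ℚ) : ℂ) * root = 0 := by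
      rw [← h3]
      push_cast
      rw [neg_mul, Finset.sum_mul, ← Finset.sum_neg_distrib, ← Finset.sum_add_distrib]
      exact Finset.sum_congr rfl fun χ _ => by ring
    exact (eq_zero_of_add_root h0).1
  have sumy : (Nat.card G : ℚ) * ∑ χ, ((v χ).x : ℚ) * (v χ).x * (v χ).z / (f χ : ℚ) =
      13824 * (N : ℚ) ^ 3 := by
    have h3 : ∑ g ∈ fib π Y, ∑ χ : Cfsg.IrrCharacter G,
        (χ : G → ℂ) t * (χ : G → ℂ) t * conj ((χ : G → ℂ) (g : G)) / (χ : G → ℂ) 1 =
        (N : ℂ) * ∑ χ : Cfsg.IrrCharacter G,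
          ((v χ).x : ℂ) * ((v χ).x : ℂ) * ((v χ).z : ℂ) / (f χ : ℂ) := by
      rw [Finset.sum_comm, Finset.mul_sum]
      refine Finset.sum_congr rfl fun χ _ => ?_
      have hsumz : ∑ g ∈ fib π Y, (χ : G → ℂ) (g : G) = (N : ℂ) * ((v χ).z : ℂ) := by
        rw [← (hv χ).y', avg, ← hN, mul_inv_cancel_left₀ (Nat.cast_ne_zero.2 Nat.card_pos.ne')]
      rw [← Finset.sum_div, ← Finset.mul_sum, ← map_sum, hsumz, map_mul, map_natCast, map_intCast, hF,
        ← mul_div_assoc]
      congr 1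
      linear_combination (N : ℂ) * sub (·.z) rfl χ
    have h2 : ∑ g ∈ fib π Y, (Nat.card G : ℂ) * ((6 * N : ℕ) : ℂ) =
        (BlocksChars.ClassAlg.classSize t : ℂ) * (BlocksChars.ClassAlg.classSize t : ℂ) *
          ((N : ℂ) * ∑ χ : Cfsg.IrrCharacter G,
            ((v χ).x : ℂ) * ((v χ).x : ℂ) * ((v χ).z : ℂ) / (f χ : ℂ)) := by
      rw [← h3, Finset.mul_sum]
      refine Finset.sum_congr rfl fun g hg => ?_
      rw [← Recognition.SelfCentNine.card_mul_eq t t (g : G), E.inverters hconj (mem_fib.1 hg)]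
    rw [Finset.sum_const, E.card_fib, nsmul_eq_mul, ← hN] at h2
    push_cast at h2
    have hN0 : (N : ℂ) ≠ 0 := Nat.cast_ne_zero.2 Nat.card_pos.ne'
    have hm : ((((Nat.card G : ℚ) * ∑ χ, ((v χ).x : ℚ) * (v χ).x * (v χ).z / (f χ : ℚ)) : ℚ) : ℂ) =
        ((13824 * (N : ℚ) ^ 3 : ℚ) : ℂ) := by
      push_cast
      generalize (∑ χ, ((v χ).x : ℂ) * ((v χ).x : ℂ) * ((v χ).z : ℂ) / (f χ : ℂ)) = T' at h2 ⊢
      refine mul_left_cancel₀ (mul_ne_zero hn hN0) ?_
      linear_combination (-(T' * ((BlocksChars.ClassAlg.classSize t : ℂ) * (48 * (N : ℂ)) + (Nat.card G : ℂ)) * (N : ℂ))) * s1 -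
        2304 * (N : ℂ) ^ 2 * h2
    exact_mod_cast hm
  have hterm : ∀ (q : V5 → ℤ), (∀ s a, q (scale s a) = s * q a) →
      ∑ χ, ((v χ).x : ℚ) * (v χ).x * q (v χ) / (f χ : ℚ) = (q ones : ℚ) +
        ([rD, rC, rA, rF, rE', rE, rB].map
          fun χ => (((can χ).x * (can χ).x * q (can χ) : ℤ) : ℚ) / (sf χ : ℚ)).sum := by
    intro q hq
    rw [hsplitQ _ (fun χ e => by simp [e, hzero]), hone.1, hone.2, sum_perm_toList S hls]
    congr 1
    · simp [hones]
    · refine Finset.sum_congr rfl fun χ _ => ?_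
      simp only [hcan, hsf, hq, hsg]
      have := hf0 χ
      split_ifs <;> simp only [scale] <;> push_cast <;> field_simp
  have ha := hterm (·.w) (fun _ _ => rfl)
  have hy := hterm (·.z) (fun _ _ => rfl)
  simp only [List.map_cons, List.map_nil, List.sum_cons, List.sum_nil, qD, qC, qA, qF, qE', qE, qB,
    hones] at ha hy
  rw [sumx] at ha
  rw [hy] at sumy
  have eA : sf rA = -(sf rB + sf rD) := by omega
  have eC : sf rC = -1 - sf rD := by omega
  have eE : sf rE = 1 + sf rB + sf rD := by omega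
  have eE' : sf rE' = sf rE := by omega
  have eF : sf rF = -sf rE := by omega
  have hB1 : sf rB ≠ 1 := by
    intro hb
    have hsgB : sg rB = 1 := by
      have h : 0 ≤ (f rB : ℤ) := by positivity
      rcases mul_self_eq_one_iff.1 (sg2 rB) with e | e
      · exact e
      · simp only [hsf, e] at hb; omega
    simp only [hsf, hsgB, one_mul] at hb
    have hf1 : (rB : G → ℂ) 1 = 1 := by rw [F, hb, Int.cast_one]
    have hv' : v rB = ⟨1, 1, 1, -1, 0⟩ := by
      rw [← qB]
      simp [hcan, scale, hsgB]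
    have hx := (hv rB).x'
    obtain ⟨gx', hgx'⟩ := E.surj X
    rw [← hgx', E.avg_eq_apply (irr_isClassFunction rB) (c := gx') (by rw [hgx']; exact det_facts.1), hv',
      ← linearOfDegreeOne_apply (irr_isCharacter rB) hf1,
      hlin (linearOfDegreeOne (irr_isCharacter rB) hf1), MonoidHom.one_apply] at hx
    norm_num at hx
  have nA := hsf0 rA
  have nB := hsf0 rB
  have nC := hsf0 rC
  have nE := hsf0 rE
  have hkey : sf rA * sf rB * (-1 - sf rD) - 9 * sf rB * (-1 - sf rD) - sf rA * (-1 - sf rD) +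
      9 * sf rA * sf rB = 0 := by
    rw [← eC]
    have qA' : (sf rA : ℚ) ≠ 0 := by exact_mod_cast nA
    have qB' : (sf rB : ℚ) ≠ 0 := by exact_mod_cast nB
    have qC' : (sf rC : ℚ) ≠ 0 := by exact_mod_cast nC
    have h0 : ((sf rA * sf rB * sf rC - 9 * sf rB * sf rC - sf rA * sf rC + 9 * sf rA * sf rB : ℤ) : ℚ) = 0 := by
      norm_num [-Nat.card_eq_fintype_card] at ha
      push_cast
      field_simp at ha
      linear_combination -ha
    exact_mod_cast h0
  rcases solve eA hB1 hB8 hD8 hkey with ⟨eD, eB⟩ | ⟨eD, eB⟩ <;> rw [eD, eB] at eE <;>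
    rw [eF, eE', eE, eD, eB] at sumy <;> norm_num [-Nat.card_eq_fintype_card] at sumy
  · left
    have : (Nat.card G : ℚ) = 5616 * (N : ℚ) ^ 3 := by linarith
    exact_mod_cast this
  · right
    have : (Nat.card G : ℚ) = 7920 * (N : ℚ) ^ 3 := by linarith
    exact_mod_cast this

end Cfsg.Agent.GLTwoThree.Core
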