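import Cfsg.Agent.Lib.GLTwoThree.Core.Fibre
import Cfsg.Agent.Lib.Blocks.ThirdMainCor
import Cfsg.Agent.Lib.Blocks.InvariantCore
import Cfsg.Agent.Lib.CentFour.Setup

/-!
# The principal block on the section of the involution

An averaged column at the involution only sees the principal block, and the principal block is
constant on the fibres.
-/

set_option autoImplicit false
set_option linter.style.haveILetI false
set_option linter.unusedSectionVars false

namespace Cfsg.Agent.GLTwoThree.Core

open Subgroup Cfsg.Agent.Characters Cfsg.Agent.Blocks Cfsg.Agent.BlockCharsA.NormalSupport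
  Cfsg.Agent.CharTheory
open scoped ComplexConjugate

universe u

/-- The quaternion subgroup of `GL(2, 3)`. -/
def QGL : List M23 :=
  [!![1, 0; 0, 1], !![2, 0; 0, 2], !![0, 2; 1, 0], !![0, 1; 2, 0], !![1, 1; 1, 2], !![2, 2; 2, 1],
    !![2, 1; 1, 1], !![1, 2; 2, 2]]

theorem QGL_closed : ∀ a ∈ QGL, ∀ b ∈ QGL, a * b ∈ QGL := by decide +kernel

theorem QGL_pow : ∀ a ∈ QGL, a ^ 4 = 1 := by decide +kernel

/-- The quaternion subgroup. -/
def Q8 : Subgroup GL23 where
  carrier := {g | g.val ∈ QGL}
  one_mem' := by simp [QGL, Matrix.one_fin_two]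
  mul_mem' {a b} ha hb := by
    simp only [Set.mem_ofPred_eq, Units.val_mul] at ha hb ⊢
    exact QGL_closed _ ha _ hb
  inv_mem' {a} ha := by
    have h : a ^ 4 = 1 := Units.ext (by rw [Units.val_pow_eq_pow_val, Units.val_one]; exact QGL_pow _ ha)
    have e : a⁻¹ = a * (a * a) := inv_eq_of_mul_eq_one_right (by
      rw [← h, pow_succ', pow_succ', pow_succ', pow_one])
    simp only [Set.mem_ofPred_eq] at ha ⊢
    rw [e, Units.val_mul, Units.val_mul]
    exact QGL_closed _ ha _ (QGL_closed _ ha _ ha)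

theorem mem_Q8 {g : GL23} : g ∈ Q8 ↔ g.val ∈ QGL := Iff.rfl

theorem Q8_conj_mat : ∀ q ∈ QGL, ∀ a b c d : ZMod 3, a * d - b * c ≠ 0 →
    mat a b c d * q ∈ QGL.map (fun r => r * mat a b c d) := by
  decide +kernel

theorem Q8_normal : Q8.Normal := by
  refine ⟨fun q hq g => ?_⟩
  have h := mat_cases (P := fun m => ∀ r ∈ QGL, m * r ∈ QGL.map (fun s => s * m))
    (fun a b c d hd r hr => Q8_conj_mat r hr a b c d hd) g q.val (mem_Q8.1 hq)
  obtain ⟨s, hs, e⟩ := List.mem_map.1 h
  rw [mem_Q8, Units.val_mul, Units.val_mul, ← e, mul_assoc, ← Units.val_mul, mul_inv_cancel,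
    Units.val_one, mul_one]
  exact hs

theorem Q8_isPGroup : IsPGroup 2 Q8 := fun q => ⟨2, Subtype.ext (Units.ext (by
  rw [Subgroup.coe_pow, Units.val_pow_eq_pow_val, Subgroup.coe_one, Units.val_one]
  exact QGL_pow _ (mem_Q8.1 q.2)))⟩

theorem Q8_centralizer : centralizer (Q8 : Set GL23) ≤ Q8 := by
  intro g hg
  have key : ∀ m : GL23, (∀ r ∈ QGL, r * m.val = m.val * r) → m.val ∈ QGL := fun m =>
    mat_cases (P := fun m => (∀ r ∈ QGL, r * m = m * r) → m ∈ QGL) (by decide +kernel) m
  refine mem_Q8.2 (key g fun r hr => ?_)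
  have hu : r * r ^ 3 = 1 ∧ r ^ 3 * r = 1 := by
    rw [← pow_succ', ← pow_succ]
    exact ⟨QGL_pow r hr, QGL_pow r hr⟩
  have := congrArg Units.val (mem_centralizer_iff.1 hg ⟨r, r ^ 3, hu.1, hu.2⟩ (mem_Q8.2 hr))
  simpa [Units.val_mul] using this

variable {G : Type u} [Group G] [Finite G] {t : G} {π : centralizer ({t} : Set G) →* GL23}
  {M : Ideal Cfsg.AlgInt} (E : Covered t π)
include E

theorem Covered.two_pow : ∃ k : ℕ, orderOf t = 2 ^ k := ⟨1, by rw [E.order, pow_one]⟩

/-- The quotient by the kernel is constrained. -/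
theorem Covered.constrained :
    centralizer (Cfsg.pCore 2 (centralizer ({t} : Set G) ⧸ π.ker) : Set (centralizer ({t} : Set G) ⧸ π.ker)) ≤
      Cfsg.pCore 2 (centralizer ({t} : Set G) ⧸ π.ker) := by
  set e := QuotientGroup.quotientKerEquivOfSurjective π E.surj with he
  set Q := Q8.map e.symm.toMonoidHom with hQ
  haveI : Q.Normal := Q8_normal.map _ e.symm.surjective
  have hle : Q ≤ Cfsg.pCore 2 (centralizer ({t} : Set G) ⧸ π.ker) := by
    haveI := Fact.mk Nat.prime_two
    exact Cores.le_pCore (Q8_isPGroup.map _)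
  refine le_trans (le_trans (centralizer_le hle) ?_) hle
  intro g hg
  refine ⟨e g, Q8_centralizer (mem_centralizer_iff.2 fun q hq => ?_), e.symm_apply_apply g⟩
  have := congrArg e (mem_centralizer_iff.1 hg _ ⟨q, hq, rfl⟩)
  simpa using this

/-- Outside the principal block the averaged column at the involution vanishes. -/
theorem Covered.avg_T_eq_zero [Fintype (centralizer ({t} : Set G))] (hM : Cfsg.IsPModular 2 M)
    {χ : Cfsg.IrrCharacter G} (hχ : χ ∉ Cfsg.principalBlock M G) : avg π (χ : G → ℂ) T = 0 := by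
  classical
  haveI := Fintype.ofFinite G
  haveI := Fintype.ofFinite π.ker
  haveI := Fintype.ofFinite (Cfsg.IrrCharacter (centralizer ({t} : Set G)))
  haveI := Fact.mk Nat.prime_two
  set b₀ := Cfsg.principalBlock M (centralizer ({t} : Set G)) with hb₀
  have hodd : ¬ 2 ∣ Nat.card π.ker := Nat.two_dvd_ne_zero.2 (Nat.odd_iff.1 E.odd)
  obtain ⟨B, hB, hmem, -, -⟩ := InvariantCore.constrained_block hM hodd E.constrained (trivIrr π.ker)
    fun g => Subtype.ext (by ext n; simp [conjIrr, trivIrr_coe, Clifford.conjBy])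
  have htriv : trivIrr (centralizer ({t} : Set G)) ∈ B := (hmem _).2 (by
    have h1 : (fun n : π.ker => ((trivIrr (centralizer ({t} : Set G)) : Cfsg.IrrCharacter (centralizer ({t} : Set G))) : ↥(centralizer ({t} : Set G)) → ℂ) n) =
        ((trivIrr π.ker : Cfsg.IrrCharacter π.ker) : π.ker → ℂ) := by ext n; simp
    rw [h1, classInner_isIrr_self (trivIrr π.ker).2]; exact one_ne_zero)
  have hB0 : B = b₀ := by
    rw [hb₀]
    exact block_eq_of_mem hM hB (isPBlock_principal M (centralizer ({t} : Set G))) htriv (trivIrr_mem_principal hM)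
  set θ := fun c : (centralizer ({t} : Set G)) => (χ : G → ℂ) (t * (c : G)) with hθ
  have hcl : Cfsg.IsClassFunction (centralizer ({t} : Set G)) θ := isClassFunction_shift (χ : G → ℂ) (irr_isClassFunction χ)
  have hreg : ∀ o : π.ker, ¬ 2 ∣ orderOf (o : (centralizer ({t} : Set G))) := fun o h =>
    Nat.two_dvd_ne_zero.2 (Nat.odd_iff.1 (E.ker_order_odd o.2)) h
  have hzero : ∀ o : π.ker, Cfsg.blockPart b₀ θ (o : (centralizer ({t} : Set G))) = 0 := by
    intro o
    refine blockPart_eq_zero_of_not_induced hM E.two_pow (isPBlock_blockOf M χ) (mem_blockOf_self hM χ)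
      (isPBlock_principal M (centralizer ({t} : Set G))) (fun hi => hχ ?_) (hreg o)
    have h0 := (third_main hM (b := Cfsg.principalBlock M (centralizer ({t} : Set G))) ⟨_, hi⟩).2 rfl
    obtain ⟨ξ, hξ⟩ := block_nonempty hM hi.1
    obtain ⟨χ', hχ'⟩ := block_nonempty hM h0.2.1
    have hs : Cfsg.SameBlock M (χ' : G → ℂ) (χ : G → ℂ) := fun g => by
      have := ideal_sub hM (hi.2.2 ξ hξ χ (mem_blockOf_self hM χ) g) (h0.2.2 ξ hξ χ' hχ' g)
      rwa [sub_sub_sub_cancel_left] at this
    exact mem_of_sameBlock hM (isPBlock_principal M G) hχ' hs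
  have hsum : ∑ o : π.ker, θ (o : (centralizer ({t} : Set G))) = 0 := by
    have h := fun o : π.ker => congrFun (classFun_eq_sum hcl) (o : (centralizer ({t} : Set G)))
    simp only [Finset.sum_apply, Pi.smul_apply, smul_eq_mul] at h
    rw [Finset.sum_congr rfl fun o _ => h o, Finset.sum_comm]
    calc ∑ ξ : Cfsg.IrrCharacter (centralizer ({t} : Set G)), ∑ o : π.ker, Cfsg.classInner θ (ξ : ↥(centralizer ({t} : Set G)) → ℂ) * (ξ : ↥(centralizer ({t} : Set G)) → ℂ) (o : (centralizer ({t} : Set G)))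
        = ∑ ξ ∈ Finset.univ.filter (fun ξ => ξ ∈ b₀), ∑ o : π.ker,
            Cfsg.classInner θ (ξ : ↥(centralizer ({t} : Set G)) → ℂ) * (ξ : ↥(centralizer ({t} : Set G)) → ℂ) (o : (centralizer ({t} : Set G))) := by
          symm
          refine Finset.sum_filter_of_ne fun ξ _ hne => ?_
          rw [← hB0]
          refine (hmem ξ).2 fun h0 => hne ?_
          rw [classInner_def] at h0
          have h0' : ∑ o : π.ker, (ξ : ↥(centralizer ({t} : Set G)) → ℂ) (o : (centralizer ({t} : Set G))) = 0 := by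
            refine (mul_eq_zero.1 h0).resolve_left (inv_ne_zero natCard_ne_zero) |> fun e => ?_
            rw [← e]
            exact Finset.sum_congr rfl fun o _ => by simp
          rw [← Finset.mul_sum, h0', mul_zero]
      _ = ∑ o : π.ker, Cfsg.blockPart b₀ θ (o : (centralizer ({t} : Set G))) := by
          rw [Finset.sum_comm]
          refine Finset.sum_congr rfl fun o _ => ?_
          rw [Cfsg.blockPart, finsum_mem_def, finsum_eq_sum_of_fintype, Finset.sum_filter]
          exact Finset.sum_congr rfl fun ξ _ => by rw [Set.indicator_apply]; split_ifs <;> convert rfl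
      _ = 0 := Finset.sum_eq_zero fun o _ => hzero o
  have hre : ∑ c ∈ fib π T, (χ : G → ℂ) (c : G) = ∑ o : π.ker, θ (o : (centralizer ({t} : Set G))) := by
    symm
    refine Finset.sum_bij (fun o _ => tC t * (o : (centralizer ({t} : Set G)))) (fun o _ => ?_) ?_ ?_ fun o _ => rfl
    · rw [mem_fib, map_mul, MonoidHom.mem_ker.1 o.2, mul_one]; exact E.hT
    · exact fun o _ o' _ h => Subtype.ext (mul_left_cancel h)
    · intro d hd
      refine ⟨⟨(tC t)⁻¹ * d, ?_⟩, Finset.mem_univ _, mul_inv_cancel_left _ d⟩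
      rw [MonoidHom.mem_ker, map_mul, map_inv, mem_fib.1 hd, show π (tC t) = T from E.hT,
        inv_mul_cancel]
  rw [avg, hre, hsum, mul_zero]

/-- The principal block is constant on the fibre of the involution. -/
theorem Covered.apply_t_eq [Fintype (centralizer ({t} : Set G))] (hM : Cfsg.IsPModular 2 M)
    {χ : Cfsg.IrrCharacter G} (hχ : χ ∈ Cfsg.principalBlock M G) :
    (χ : G → ℂ) t = avg π (χ : G → ℂ) T := by
  haveI := Fintype.ofFinite G
  symm
  refine E.avg_eq_of_const fun c hc => ?_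
  have ho : (tC t)⁻¹ * c ∈ π.ker := by
    rw [MonoidHom.mem_ker, map_mul, map_inv, hc, show π (tC t) = T from E.hT, inv_mul_cancel]
  have h := value_mul_core hM E.two_pow hχ (K := π.ker)
    (Nat.two_dvd_ne_zero.2 (Nat.odd_iff.1 E.odd)) ho
  simpa [tC] using h

/-- The principal block is constant on the fibre of an element of order four. -/
theorem Covered.apply_sq_eq [Fintype (centralizer ({t} : Set G))] (hM : Cfsg.IsPModular 2 M)
    {χ : Cfsg.IrrCharacter G} (hχ : χ ∈ Cfsg.principalBlock M G)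
    {u : centralizer ({t} : Set G)} (h4 : orderOf (u : G) = 4) (hu : u * u = tC t)
    (hd : (π u).val.det = 1) : (χ : G → ℂ) (u : G) = avg π (χ : G → ℂ) (π u) := by
  haveI := Fintype.ofFinite G
  symm
  set U := centralizer ({(u : G)} : Set G) with hU
  have hUt : U ≤ centralizer ({t} : Set G) := by
    intro x hx
    rw [mem_centralizer_singleton_iff, show t = (u : G) * u from (congrArg Subtype.val hu).symm]
    exact (Commute.mul_right (mem_centralizer_singleton_iff.1 hx) (mem_centralizer_singleton_iff.1 hx)).eq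
  set f := π.comp (Subgroup.inclusion hUt) with hf
  haveI : f.ker.Normal := inferInstance
  have hodd : ¬ 2 ∣ Nat.card f.ker := by
    intro h
    obtain ⟨x, hx⟩ := exists_prime_orderOf_dvd_card' (G := f.ker) 2 (hp := ⟨Nat.prime_two⟩) h
    have h1 : orderOf (Subgroup.inclusion hUt (x : U)) = 2 := by
      rw [orderOf_injective _ (Subgroup.inclusion_injective hUt), Subgroup.orderOf_coe, hx]
    have h2 := E.ker_order_odd (o := Subgroup.inclusion hUt (x : U)) x.2
    rw [h1] at h2
    exact absurd h2 (by decide)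
  refine E.avg_eq_of_const fun c hc => ?_
  have ho : u⁻¹ * c ∈ π.ker := by rw [MonoidHom.mem_ker, map_mul, map_inv, hc, inv_mul_cancel]
  have hcu : ((u⁻¹ * c : centralizer ({t} : Set G)) : G) ∈ U :=
    mem_centralizer_singleton_iff.2 (congrArg Subtype.val (E.comm u _ ho hd)).symm
  have h := value_mul_core hM ⟨2, h4⟩ hχ (K := f.ker) hodd
    (v := ⟨_, hcu⟩) (by rw [MonoidHom.mem_ker]; exact ho)
  simpa using h

end Cfsg.Agent.GLTwoThree.Core
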