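import Cfsg.Agent.Lib.GLTwoThree.Core.Principal

/-!
# The averaged rows
-/

set_option autoImplicit false
set_option linter.style.haveILetI false
set_option linter.unusedSectionVars false

namespace Cfsg.Agent.GLTwoThree.Core

open Subgroup Cfsg.Agent.Characters Cfsg.Agent.SelfNine
open scoped ComplexConjugate

universe u

theorem det_facts : X.val.det ≠ 1 ∧ (X ^ 3 : GL23).val.det ≠ 1 ∧ (X ^ 7 : GL23).val.det ≠ 1 ∧
    W.val.det ≠ 1 ∧ (X ^ 2 : GL23).val.det = 1 ∧ T.val.det = 1 ∧ Y.val.det = 1 := by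
  simp only [Units.val_pow_eq_pow_val, Matrix.det_fin_two]
  decide +kernel

theorem embedded_id : Embedded T (MonoidHom.id GL23) where
  inj := fun _ _ h => h
  range g := ⟨fun _ => ⟨g, rfl⟩, fun _ => T_central g⟩
  hT := rfl
  card := by
    rw [show centralizer ({T} : Set GL23) = ⊤ from eq_top_iff.2 fun g _ =>
      mem_centralizer_singleton_iff.2 (T_central g), Subgroup.card_top, card_GL23]

variable {G : Type u} [Group G] [Finite G] {t : G} {π : centralizer ({t} : Set G) →* GL23}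

/-- A row of averaged values. -/
structure ARow [Fintype (centralizer ({t} : Set G))] (π : centralizer ({t} : Set G) →* GL23)
    (χ : G → ℂ) (v : V5) : Prop where
  t' : avg π χ T = (v.x : ℂ)
  x2 : avg π χ (X ^ 2) = (v.y : ℂ)
  y' : avg π χ Y = (v.z : ℂ)
  x' : avg π χ X = (v.w : ℂ) + (v.u : ℂ) * root
  x7 : avg π χ (X ^ 7) = (v.w : ℂ) - (v.u : ℂ) * root
  e1 : (v.x - v.z) % 3 = 0
  e2 : (v.y - v.w) % 2 = 0
  e3 : (v.x - v.y - 2 * v.u) % 4 = 0

variable (E : Covered t π)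
include E

theorem Covered.exists_arow [Fintype (centralizer ({t} : Set G))] (χ : Cfsg.IrrCharacter G) :
    ∃ v : V5, ARow π (χ : G → ℂ) v := by
  classical
  haveI := Fintype.ofFinite (Cfsg.IrrCharacter GL23)
  have hc := E.avg_isCharacter (irr_isCharacter χ)
  choose f v hv c0 c4 c2 c3 using embedded_id.exists_row
  choose n hn using fun η : Cfsg.IrrCharacter GL23 => classInner_char_nat hc (irr_isCharacter η)
  have hval : ∀ a : GL23, avg π (χ : G → ℂ) a = ∑ η, (n η : ℂ) * (η : GL23 → ℂ) a := fun a => by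
    have h := congrFun (classFun_eq_sum (char_isClassFunction hc)) a
    simp only [Finset.sum_apply, Pi.smul_apply, smul_eq_mul, hn] at h
    exact h
  set V : V5 := ⟨∑ η, (n η : ℤ) * (v η).x, ∑ η, (n η : ℤ) * (v η).y, ∑ η, (n η : ℤ) * (v η).z,
    ∑ η, (n η : ℤ) * (v η).w, ∑ η, (n η : ℤ) * (v η).u⟩ with hV
  have dvd : ∀ (k : ℤ) (F : Cfsg.IrrCharacter GL23 → ℤ), (∀ η, F η % k = 0) →
      (∑ η, (n η : ℤ) * F η) % k = 0 := fun k F hF =>
    Int.emod_eq_zero_of_dvd (Finset.dvd_sum fun η _ => dvd_mul_of_dvd_right (Int.dvd_of_emod_eq_zero (hF η)) _)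
  have t1 := fun η => (hv η).t'
  have t2 := fun η => (hv η).x2
  have t3 := fun η => (hv η).y'
  have t4 := fun η => (hv η).x'
  have t5 := fun η => (hv η).x7
  simp only [MonoidHom.id_apply] at t1 t2 t3 t4 t5
  refine ⟨V, ⟨?_, ?_, ?_, ?_, ?_, ?_, ?_, ?_⟩⟩
  · rw [hval, hV]; push_cast; exact Finset.sum_congr rfl fun η _ => by rw [t1]
  · rw [hval, hV]; push_cast; exact Finset.sum_congr rfl fun η _ => by rw [t2]
  · rw [hval, hV]; push_cast; exact Finset.sum_congr rfl fun η _ => by rw [t3]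
  · rw [hval, hV]; push_cast; rw [Finset.sum_mul, ← Finset.sum_add_distrib]
    exact Finset.sum_congr rfl fun η _ => by rw [t4]; ring
  · rw [hval, hV]; push_cast; rw [Finset.sum_mul, ← Finset.sum_sub_distrib]
    exact Finset.sum_congr rfl fun η _ => by rw [t5]; ring
  · have := dvd 3 (fun η => (v η).x - (v η).z) c3
    simp only [mul_sub, Finset.sum_sub_distrib] at this
    exact this
  · have := dvd 2 (fun η => (v η).y - (v η).w) fun η => by have := c0 η; have := c2 η; omega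
    simp only [mul_sub, Finset.sum_sub_distrib] at this
    exact this
  · have := dvd 4 (fun η => (v η).x - (v η).y - 2 * (v η).u) fun η => by
      have := c2 η; have := c4 η; omega
    simp only [mul_sub, Finset.sum_sub_distrib] at this
    rw [hV]
    simp only [Finset.mul_sum, mul_left_comm (2 : ℤ)]
    exact this

/-- The facts about a lift of the element of order eight. -/
theorem Covered.lift_X {g : centralizer ({t} : Set G)} (hg : π g = X) :
    g ^ 8 = 1 ∧ g ^ 4 = tC t ∧ IsConj (g : G) ((g : G) ^ 3) ∧ orderOf ((g : G) ^ 2) = 4 := by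
  have hd : (π g).val.det ≠ 1 := by rw [hg]; exact det_facts.1
  have h8 : g ^ 8 = 1 := by
    have ho : g ^ 8 ∈ π.ker := by
      rw [MonoidHom.mem_ker, map_pow, hg, show 8 = 4 + 4 from rfl, pow_add, X_pow.1, X_pow.2.2.1]
    have h1 := E.inv g _ ho hd
    rw [← pow_succ', pow_succ, mul_right_cancel_iff] at h1
    exact E.sq_eq_one_ker ho (eq_inv_iff_mul_eq_one.1 h1)
  have h4 : g ^ 4 = tC t := by
    have ho : g ^ 4 * tC t ∈ π.ker := by
      rw [MonoidHom.mem_ker, map_mul, map_pow, hg, show π (tC t) = T from E.hT, X_pow.1, X_pow.2.2.1]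
    have h1 : g ^ 4 * tC t * (g ^ 4 * tC t) = 1 := by
      rw [mul_assoc, ← mul_assoc (tC t), tC_comm, mul_assoc (g ^ 4) (tC t), E.tC_sq, mul_one, ← pow_add, h8]
    calc g ^ 4 = g ^ 4 * tC t * tC t := by rw [mul_assoc, E.tC_sq, mul_one]
      _ = tC t := by rw [E.sq_eq_one_ker ho h1, one_mul]
  refine ⟨h8, h4, ?_, ?_⟩
  · obtain ⟨d, hd'⟩ := E.surj W
    have h1 : π (d * g * d⁻¹) = π (g ^ 3) := by
      rw [map_mul, map_mul, map_inv, hd', hg, map_pow, hg, W_facts.2.2.2.1, mul_inv_cancel_right]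
    have h2 := E.conj_coset (c := d * g * d⁻¹) (c' := g ^ 3)
      (by rw [h1, map_pow, hg]; exact det_facts.2.1) h1.symm
    refine IsConj.trans (isConj_iff.2 ⟨(d : G), rfl⟩) ?_
    simpa using h2
  · have ht : ((g : G) ^ 2) ^ 2 = t := by
      rw [← pow_mul]; exact congrArg Subtype.val h4
    refine orderOf_eq_prime_pow (p := 2) (n := 1) ?_ ?_
    · rw [pow_one, ht]
      intro h
      have h2 := E.order
      rw [h, orderOf_one] at h2
      norm_num at h2
    · rw [← pow_mul]; exact congrArg Subtype.val h8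

/-- The congruences of the true values. -/
theorem Covered.cong_eight [Fintype (centralizer ({t} : Set G))] (hM : ∃ M, Cfsg.IsPModular 2 M)
    {χ : Cfsg.IrrCharacter G} {f : ℕ} (hf : (χ : G → ℂ) 1 = (f : ℂ)) {v : V5}
    (hv : ARow π (χ : G → ℂ) v) (hx : v.x ≠ 0) :
    (χ : G → ℂ) t = (v.x : ℂ) ∧ ((f : ℤ) + v.x + 2 * v.y + 4 * v.w) % 8 = 0 ∧
      ((f : ℤ) - v.x + 4 * v.u) % 8 = 0 := by
  obtain ⟨M, hM⟩ := hM
  have hB : χ ∈ Cfsg.principalBlock M G := by
    by_contra hn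
    have := E.avg_T_eq_zero hM hn
    rw [hv.t'] at this
    exact hx (by exact_mod_cast this)
  have hT : (χ : G → ℂ) t = (v.x : ℂ) := by rw [E.apply_t_eq hM hB, hv.t']
  obtain ⟨g, hg⟩ := E.surj X
  obtain ⟨h8, h4, h3, h2⟩ := E.lift_X hg
  have hx8 : (g : G) ^ 8 = 1 := congrArg Subtype.val h8
  have hx4 : (g : G) ^ 4 = t := congrArg Subtype.val h4
  have hW' : (χ : G → ℂ) ((g : G) ^ 2) = (v.y : ℂ) := by
    have h := E.apply_sq_eq hM hB (u := g ^ 2) (by simpa using h2) (by rw [← pow_add, h4])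
      (by rw [map_pow, hg]; exact det_facts.2.2.2.2.1)
    rw [map_pow, hg, hv.x2] at h
    simpa using h
  have hX : (χ : G → ℂ) (g : G) = (v.w : ℂ) + (v.u : ℂ) * root := by
    rw [← E.avg_eq_apply (irr_isClassFunction χ) (c := g) (by rw [hg]; exact det_facts.1), hg, hv.x']
  have h := irr_isCharacter χ
  have cl := fun {a b : G} (hc : IsConj a b) =>
    (BlocksChars.ClassAlg.classFun_eq_of_isConj (irr_isClassFunction χ) hc).symm
  have e3 : (χ : G → ℂ) ((g : G) ^ 3) = (v.w : ℂ) + (v.u : ℂ) * root := (cl h3).trans hX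
  have e6 : (χ : G → ℂ) ((g : G) ^ 6) = (v.y : ℂ) := by
    rw [show (6 : ℕ) = 3 * 2 from rfl, pow_mul, cl (h3.pow 2), hW']
  have cj : conj ((v.w : ℂ) + (v.u : ℂ) * root) = (v.w : ℂ) - (v.u : ℂ) * root := by
    rw [map_add, map_mul, conj_root, map_intCast, map_intCast]; ring
  have e7 : (χ : G → ℂ) ((g : G) ^ 7) = (v.w : ℂ) - (v.u : ℂ) * root := by
    rw [← cj, ← hX, ← char_inv h, eq_inv_of_mul_eq_one_left (show (g : G) ^ 7 * g = 1 by rw [← pow_succ, hx8])]
  have e5 : (χ : G → ℂ) ((g : G) ^ 5) = (v.w : ℂ) - (v.u : ℂ) * root := by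
    rw [← cj, ← e3, ← char_inv h,
      eq_inv_of_mul_eq_one_left (show (g : G) ^ 5 * (g : G) ^ 3 = 1 by rw [← pow_add, hx8])]
  obtain ⟨hz2, hz8, hzr⟩ := zeta_facts
  obtain ⟨m0, k0⟩ := mult h (by norm_num) hx8 (one_pow 8)
  obtain ⟨m1, k1⟩ := mult h (by norm_num) hx8 (μ := zeta) hz8
  have hzi : zeta⁻¹ = zeta ^ 7 := inv_eq_of_mul_eq_one_right (by rw [← pow_succ', hz8])
  rw [hzi] at k1
  simp only [Finset.sum_range_succ, Finset.sum_range_zero, pow_zero, pow_one, zero_add, inv_one, one_pow,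
    mul_one, e3, e5, e6, e7, hW', hX, hf, hx4, hT, ← pow_mul] at k0 k1
  simp only [Nat.reduceMul] at k1
  have z4 : zeta ^ 4 = -1 := by rw [show 4 = 2 + 2 from rfl, pow_add, hz2, Complex.I_mul_I]
  have zp : ∀ n, zeta ^ (4 + n) = -zeta ^ n := fun n => by rw [pow_add, z4, neg_one_mul]
  have z7 : zeta ^ 7 = -zeta ^ 3 := zp 3
  have p14 : zeta ^ 14 = -zeta ^ 2 := by
    rw [show 14 = 4 + (4 + (4 + 2)) from rfl, zp, zp, zp]; ring
  have p21 : zeta ^ 21 = -zeta := by
    rw [show 21 = 4 + (4 + (4 + (4 + (4 + 1)))) from rfl, zp, zp, zp, zp, zp, pow_one]; ring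
  have p28 : zeta ^ 28 = -1 := by rw [show 28 = 4 * 7 from rfl, pow_mul, z4]; norm_num
  have p35 : zeta ^ 35 = zeta ^ 3 := by
    rw [show 35 = 4 * 8 + 3 from rfl, pow_add, pow_mul, z4]; norm_num
  have p42 : zeta ^ 42 = zeta ^ 2 := by
    rw [show 42 = 4 * 10 + 2 from rfl, pow_add, pow_mul, z4]; norm_num
  have p49 : zeta ^ 49 = zeta := by
    rw [show 49 = 4 * 12 + 1 from rfl, pow_add, pow_mul, z4]; norm_num
  rw [z7, p14, p21, p28, p35, p42, p49] at k1
  have q0 : ((f : ℤ) + v.x + 2 * v.y + 4 * v.w) = 8 * (m0 : ℤ) := by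
    have : (((f : ℤ) + v.x + 2 * v.y + 4 * v.w : ℤ) : ℂ) = ((8 * (m0 : ℤ) : ℤ) : ℂ) := by
      push_cast at k0 ⊢
      linear_combination k0
    exact_mod_cast this
  have q1 : ((f : ℤ) - v.x + 4 * v.u) = 8 * (m1 : ℤ) := by
    have : (((f : ℤ) - v.x + 4 * v.u : ℤ) : ℂ) = ((8 * (m1 : ℤ) : ℤ) : ℂ) := by
      push_cast at k1 ⊢
      linear_combination k1 + 2 * (v.u : ℂ) * root * hzr + 2 * (v.u : ℂ) * root_sq
    exact_mod_cast this
  exact ⟨hT, by omega, by omega⟩

end Cfsg.Agent.GLTwoThree.Core
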